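import Groth.Agent.GammaProd.Basic
import Mathlib.AlgebraicGeometry.QuasiAffine
import Mathlib.AlgebraicGeometry.Morphisms.Flat
import Mathlib.CategoryTheory.Monoidal.Cartesian.Over
import Mathlib.CategoryTheory.Monoidal.Cartesian.Grp
import Mathlib.AlgebraicGeometry.AlgClosed.Basic
import Mathlib.FieldTheory.IsAlgClosed.AlgebraicClosure

/-!
# A quasi-affine group over a field is affine
-/

universe u
open CategoryTheory CategoryTheory.Limits MonoidalCategory CartesianMonoidalCategory MonObj GrpObj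
open AlgebraicGeometry

set_option backward.isDefEq.respectTransparency false

namespace Groth.Agent.GammaProd

theorem flat_appTop_field {K : Type u} [Field K] {X : Scheme.{u}}
    (g : X ⟶ Spec (CommRingCat.of K)) : g.appTop.hom.Flat := by
  have hF : IsField Γ(Spec (CommRingCat.of K), ⊤) := MulEquiv.isField (Field.toIsField K)
    (Scheme.ΓSpecIso (CommRingCat.of K)).commRingCatIsoToRingEquiv.toMulEquiv
  letI := hF.toField
  letI := g.appTop.hom.toAlgebra
  exact (Module.Flat.of_free : Module.Flat Γ(Spec (CommRingCat.of K), ⊤) Γ(X, ⊤))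

theorem appTop_comp_apply {X Y Z : Scheme.{u}} (f : X ⟶ Y) (g : Y ⟶ Z) (a : Γ(Z, ⊤)) :
    (f ≫ g).appTop a = f.appTop (g.appTop a) := by
  rw [Scheme.Hom.comp_appTop]; rfl

/-- pull back of a sum of products -/
theorem appTop_sum {P X Y Z : Scheme.{u}} (u : Z ⟶ P) {p : P ⟶ X} {q : P ⟶ Y} {n : ℕ}
    (a : Fin n → Γ(X, ⊤)) (b : Fin n → Γ(Y, ⊤)) {u₁ : Z ⟶ X} {u₂ : Z ⟶ Y} (h₁ : u ≫ p = u₁)
    (h₂ : u ≫ q = u₂) :
    u.appTop (∑ i, p.appTop (a i) * q.appTop (b i)) = ∑ i, u₁.appTop (a i) * u₂.appTop (b i) := by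
  subst h₁ h₂
  rw [map_sum]
  refine Finset.sum_congr rfl fun i _ => ?_
  rw [map_mul, appTop_comp_apply, appTop_comp_apply]

variable {K : Type u} [Field K]

/-- Over an algebraically closed field a character of the functions of a quasi-affine group does not
kill all functions with affine non-vanishing locus. -/
theorem exists_affine_not_mem_ker [IsAlgClosed K] (G : Over (Spec (CommRingCat.of K))) [GrpObj G]
    [LocallyOfFiniteType G.hom] [G.left.IsQuasiAffine]
    (χ : Γ(G.left, ⊤) →+* K)
    (hχ : ∀ c, χ (G.hom.appTop c) = (Scheme.ΓSpecIso (CommRingCat.of K)).hom c) :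
    ∃ f : Γ(G.left, ⊤), IsAffineOpen (G.left.basicOpen f) ∧ χ f ≠ 0 := by
  by_contra hc
  push Not at hc
  let σ := (Scheme.ΓSpecIso (CommRingCat.of K)).hom
  let e : Spec (CommRingCat.of K) ⟶ G.left := η[G].left
  let t₀ : Spec (CommRingCat.of K) := IsLocalRing.closedPoint K
  obtain ⟨_, ⟨_, ⟨f, hf, rfl⟩, rfl⟩, hef, -⟩ :=
    (Scheme.IsQuasiAffine.isBasis_basicOpen G.left).exists_subset_of_mem_open
      (Set.mem_univ (e t₀)) isOpen_univ
  obtain ⟨n, a, b, hab⟩ := exists_sum (p := pullback.fst G.hom G.hom) (q := pullback.snd G.hom G.hom)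
    (flat_appTop_field G.hom) (IsPullback.of_hasPullback G.hom G.hom) (μ[G].left.appTop f)
  have pull : ∀ {T : Over (Spec (CommRingCat.of K))} (x y : T ⟶ G),
      (x * y).left.appTop f = ∑ i, x.left.appTop (a i) * y.left.appTop (b i) := by
    intro T x y
    rw [Hom.mul_def, Over.comp_left, appTop_comp_apply]
    erw [hab]
    exact appTop_sum _ a b (by simp) (by simp)
  let c : Fin n → Γ(Spec (CommRingCat.of K), ⊤) := fun i =>
    (Scheme.ΓSpecIso (CommRingCat.of K)).inv (χ (a i))
  have hc' : ∀ i, σ (c i) = χ (a i) := fun i => Iso.inv_hom_id_apply _ _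
  let h : Γ(G.left, ⊤) := ∑ i, G.hom.appTop (c i) * b i
  have hpt : ∀ x : G.left, IsClosed ({x} : Set G.left) → x ∉ G.left.basicOpen h := by
    intro x hx hxh
    let x' : 𝟙_ (Over (Spec (CommRingCat.of K))) ⟶ G :=
      Over.homMk (pointOfClosedPoint G.hom x hx) (pointOfClosedPoint_comp G.hom x hx)
    let α : G ⟶ G := 𝟙 G * (toUnit G ≫ x')
    have : IsIso α := ⟨𝟙 G * (toUnit G ≫ x'⁻¹), by
      simp only [α, MonObj.comp_mul, Category.comp_id, reassoc_of% comp_toUnit, _root_.mul_assoc]
      rw [← MonObj.comp_mul, mul_inv_cancel, Hom.one_def, ← Category.assoc, comp_toUnit]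
      exact _root_.mul_one _, by
      simp only [α, MonObj.comp_mul, Category.comp_id, reassoc_of% comp_toUnit, _root_.mul_assoc]
      rw [← MonObj.comp_mul, inv_mul_cancel, Hom.one_def, ← Category.assoc, comp_toUnit]
      exact _root_.mul_one _⟩
    have : IsIso α.left := inferInstanceAs (IsIso ((Over.forget _).map α))
    have h1 : χ (α.left.appTop f) = 0 := by
      apply hc
      rw [← Scheme.preimage_basicOpen_top]
      exact hf.preimage α.left
    have h2 : (x'.left).appTop h = 0 := by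
      have hx' : x'.left ≫ G.hom = 𝟙 _ := Over.w x'
      simp only [pull, α, Over.id_left, Over.comp_left, appTop_comp_apply] at h1
      erw [map_sum] at h1
      apply (ConcreteCategory.bijective_of_isIso σ).1
      rw [map_zero, ← h1]
      simp only [h]
      rw [map_sum, map_sum]
      refine Finset.sum_congr rfl fun i _ => ?_
      rw [map_mul, map_mul, ← appTop_comp_apply, hx', map_mul]
      erw [hχ, ← hc' i]
      rfl
    have h3 : t₀ ∈ x'.left ⁻¹ᵁ G.left.basicOpen h := by
      show x'.left t₀ ∈ G.left.basicOpen h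
      rwa [show x'.left t₀ = x from pointOfClosedPoint_apply G.hom x hx t₀]
    rw [Scheme.preimage_basicOpen_top, h2, Scheme.basicOpen_zero] at h3
    exact h3
  have : JacobsonSpace G.left := LocallyOfFiniteType.jacobsonSpace G.hom
  have hnil : IsNilpotent h := by
    rw [Scheme.isNilpotent_iff_basicOpen_eq_bot]
    rw [eq_bot_iff]
    intro x hx
    obtain ⟨y, hy, hyc⟩ := nonempty_inter_closedPoints (Z := (G.left.basicOpen h : Set G.left))
      ⟨x, hx⟩ (G.left.basicOpen h).2.isLocallyClosed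
    exact (hpt y hyc hy).elim
  have h4 : χ (ι[G].left.appTop h) = 0 := ((hnil.map ι[G].left.appTop.hom).map χ).eq_zero
  have h5 : σ (e.appTop f) = 0 := by
    have hinv : (𝟙 G * (𝟙 G)⁻¹ : G ⟶ G) = 1 := mul_inv_cancel _
    have := congrArg (fun z : G ⟶ G => χ (z.left.appTop f)) hinv
    simp only [pull, Hom.one_def, Over.comp_left, appTop_comp_apply] at this
    rw [show ((toUnit G).left : G.left ⟶ Spec (CommRingCat.of K)) = G.hom from by simp] at this
    erw [hχ] at this
    rw [show σ (e.appTop f) = _ from this.symm, ← h4]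
    simp only [h]
    erw [map_sum, map_sum, map_sum]
    refine Finset.sum_congr rfl fun i _ => ?_
    erw [map_mul, map_mul, map_mul, ← appTop_comp_apply, Over.w ι[G], hχ, ← hc' i]
    simp only [Over.id_left]
    rfl
  have h6 : e.appTop f = 0 := (ConcreteCategory.bijective_of_isIso σ).1 (by rw [h5, map_zero])
  have h7 : t₀ ∈ e ⁻¹ᵁ G.left.basicOpen f := hef
  rw [Scheme.preimage_basicOpen_top, h6, Scheme.basicOpen_zero] at h7
  exact h7

theorem mem_range_toSpecΓ {X : Scheme.{u}} [X.IsQuasiAffine] (r : Γ(X, ⊤))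
    (hr : IsAffineOpen (X.basicOpen r)) {z : Spec Γ(X, ⊤)} (hz : r ∉ z.asIdeal) :
    z ∈ Set.range X.toSpecΓ := by
  have := isLocalization_basicOpen_of_qcqs (X := X) isCompact_univ isQuasiSeparated_univ r
  have hz' : z ∈ Set.range (Spec.map (X.presheaf.map (homOfLE (le_top : X.basicOpen r ≤ ⊤)).op)) := by
    have := PrimeSpectrum.localization_away_comap_range Γ(X, X.basicOpen r) r
    exact this.symm ▸ hz
  obtain ⟨w, rfl⟩ := hz'
  refine ⟨(X.basicOpen r).ι (hr.isoSpec.inv w), ?_⟩
  rw [← Scheme.Hom.comp_apply, ← Scheme.Hom.comp_apply,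
    ← Scheme.Opens.toSpecΓ_SpecMap_presheaf_map_top, hr.isoSpec_inv_toSpecΓ_assoc]

/-- every field-valued character of the functions is given by a point -/
theorem mem_range_of_char (k : Type u) [Field k] (G : Over (Spec (CommRingCat.of k)))
    [GrpObj G] [LocallyOfFiniteType G.hom] [G.left.IsQuasiAffine] (L : Type u) [Field L]
    [IsAlgClosed L] (χ : Γ(G.left, ⊤) ⟶ CommRingCat.of L) :
    Spec.map χ (IsLocalRing.closedPoint L) ∈ Set.range G.left.toSpecΓ := by
  obtain ⟨g, hg⟩ : ∃ g : Spec (CommRingCat.of L) ⟶ Spec (CommRingCat.of k),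
      G.hom.appTop ≫ χ = g.appTop ≫ (Scheme.ΓSpecIso (CommRingCat.of L)).hom := by
    refine ⟨Spec.map ((Scheme.ΓSpecIso (CommRingCat.of k)).inv ≫ G.hom.appTop ≫ χ), ?_⟩
    rw [Scheme.ΓSpecIso_naturality, Iso.hom_inv_id_assoc]
  let GK : Over (Spec (CommRingCat.of L)) := Over.mk (pullback.snd G.hom g)
  let : GrpObj (Over.mk G.hom) := inferInstanceAs (GrpObj G)
  let : GrpObj GK := Over.grpObjMkPullbackSnd
  have : LocallyOfFiniteType GK.hom := inferInstanceAs (LocallyOfFiniteType (pullback.snd G.hom g))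
  have : IsAffineHom g := isAffineHom_of_isAffine g
  have : IsAffineHom (pullback.fst G.hom g) := MorphismProperty.pullback_fst _ _ inferInstance
  have : GK.left.IsQuasiAffine := Scheme.IsQuasiAffine.of_isAffineHom (pullback.fst G.hom g)
  obtain ⟨χK, hl, hr⟩ : ∃ χK : Γ(GK.left, ⊤) ⟶ CommRingCat.of L,
      (pullback.fst G.hom g).appTop ≫ χK = χ ∧
      (pullback.snd G.hom g).appTop ≫ χK = (Scheme.ΓSpecIso (CommRingCat.of L)).hom := by
    have HP := isPushout_appTop (flat_appTop_field g) (IsPullback.of_hasPullback G.hom g)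
    exact ⟨HP.desc χ _ hg, HP.inl_desc _ _ hg, HP.inr_desc _ _ hg⟩
  obtain ⟨f, hf, hχf⟩ := exists_affine_not_mem_ker GK χK.hom fun c => congr($(hr).hom c)
  have hq : f ∉ (Spec.map χK (IsLocalRing.closedPoint L)).asIdeal := by
    intro hm
    apply hχf
    have : χK.hom f ∈ IsLocalRing.maximalIdeal L := hm
    rwa [IsLocalRing.maximalIdeal_eq_bot, Ideal.mem_bot] at this
  obtain ⟨x, hx⟩ := mem_range_toSpecΓ f hf hq
  refine ⟨pullback.fst G.hom g x, ?_⟩
  calc G.left.toSpecΓ (pullback.fst G.hom g x)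
      = Spec.map (pullback.fst G.hom g).appTop (GK.left.toSpecΓ x) := by
        rw [← Scheme.Hom.comp_apply, Scheme.toSpecΓ_naturality]; rfl
    _ = _ := by
        rw [hx]
        erw [← Scheme.Hom.comp_apply, ← Spec.map_comp, hl]

/-- **A quasi-affine group over a field is affine.** -/
theorem isAffine_of_isQuasiAffine (k : Type u) [Field k] (G : Over (Spec (CommRingCat.of k)))
    [GrpObj G] [LocallyOfFiniteType G.hom] [G.left.IsQuasiAffine] : IsAffine G.left := by
  have : Surjective G.left.toSpecΓ := ⟨fun z => ?_⟩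
  · have : IsIso G.left.toSpecΓ := isIso_of_isOpenImmersion_of_opensRange_eq_top _
      (TopologicalSpace.Opens.ext (Set.range_eq_univ.2 G.left.toSpecΓ.surjective))
    exact .of_isIso G.left.toSpecΓ
  let L := AlgebraicClosure z.asIdeal.ResidueField
  let χ : Γ(G.left, ⊤) ⟶ CommRingCat.of L := CommRingCat.ofHom
    ((algebraMap z.asIdeal.ResidueField L).comp (algebraMap Γ(G.left, ⊤) z.asIdeal.ResidueField))
  have hz : Spec.map χ (IsLocalRing.closedPoint L) = z := by
    apply PrimeSpectrum.ext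
    show Ideal.comap χ.hom (IsLocalRing.maximalIdeal L) = z.asIdeal
    rw [IsLocalRing.maximalIdeal_eq_bot]
    change RingHom.ker ((algebraMap z.asIdeal.ResidueField L).comp
      (algebraMap Γ(G.left, ⊤) z.asIdeal.ResidueField)) = z.asIdeal
    rw [RingHom.ker_comp_of_injective _ (algebraMap z.asIdeal.ResidueField L).injective,
      Ideal.ker_algebraMap_residueField]
  rw [← hz]
  exact mem_range_of_char k G L χ

end Groth.Agent.GammaProd
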