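import Groth.Agent.FinFibImage.BaseChange
import Mathlib.AlgebraicGeometry.Morphisms.Separated

/-!
# Global functions on a product over a field
-/

open CategoryTheory CategoryTheory.Limits AlgebraicGeometry TensorProduct

universe u

namespace Groth.Agent.GammaProd

set_option backward.isDefEq.respectTransparency false in
/-- global functions commute with products of qcqs schemes over a base with flat functions -/
theorem isPushout_appTop {P X Y S : Scheme.{u}} {p : P ⟶ X} {q : P ⟶ Y} {g : X ⟶ S} {h : Y ⟶ S}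
    [IsAffine S] [CompactSpace X] [X.IsSeparated] [Flat g] [CompactSpace Y] [QuasiSeparatedSpace Y]
    (hflat : h.appTop.hom.Flat) (H : IsPullback p q g h) :
    IsPushout g.appTop h.appTop p.appTop q.appTop := by
  obtain ⟨I, hI, e⟩ := isCompact_iff_finite_and_eq_biUnion_affineOpens.mp
    (show IsCompact ((⊤ : X.Opens) : Set X) from isCompact_univ)
  have := hI.to_subtype
  have key : ∀ V : X.Opens, IsAffineOpen V → IsIso (pushoutSection H (US := ⊤) (UT := ⊤) (UX := V)
      (UY := p ⁻¹ᵁ V ⊓ q ⁻¹ᵁ ⊤) le_top le_top rfl) := by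
    intro V hV
    rw [isIso_pushoutSection_iff]
    exact ((isIso_pushoutSection_iff H.flip (US := ⊤) (UT := V) (UX := ⊤) (UY := p ⁻¹ᵁ V ⊓ q ⁻¹ᵁ ⊤)
      le_top le_top (inf_comm _ _)).mp
      (isIso_pushoutSection_of_isQuasiSeparated_of_flat_right H.flip _ _ _ (isAffineOpen_top S) hV
        CompactSpace.isCompact_univ ((isQuasiSeparated_univ_iff).mpr inferInstance))).flip
  have h' : (h.appLE ⊤ ⊤ le_top).hom.Flat := by
    simpa [Scheme.Hom.appLE, Scheme.Hom.appTop] using! hflat
  have hall : IsIso (pushoutSection H (US := ⊤) (UT := ⊤) (UX := ⊤) (UY := ⊤) le_top le_top (by simp)) := by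
    refine isIso_pushoutSection_of_iSup_eq H _ _ _ (fun i : I => (i : X.Opens)) ?_
      (fun i => key _ i.1.2) (fun i j => ?_) h'
    · rw [iSup_subtype]; exact e.symm
    · have := key _ (i.1.2.inf j.1.2)
      infer_instance
  have := (isIso_pushoutSection_iff H (US := ⊤) (UT := ⊤) (UX := ⊤) (UY := ⊤) le_top le_top
    (by simp)).mp hall
  simpa [Scheme.Hom.appLE, Scheme.Hom.appTop] using! this

/-- every function on the product is a finite sum of products -/
theorem exists_sum {P X Y S : Scheme.{u}} {p : P ⟶ X} {q : P ⟶ Y} {g : X ⟶ S} {h : Y ⟶ S}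
    [IsAffine S] [CompactSpace X] [X.IsSeparated] [Flat g] [CompactSpace Y] [QuasiSeparatedSpace Y]
    (hflat : h.appTop.hom.Flat) (H : IsPullback p q g h) (F : Γ(P, ⊤)) :
    ∃ (n : ℕ) (a : Fin n → Γ(X, ⊤)) (b : Fin n → Γ(Y, ⊤)),
      F = ∑ i, p.appTop (a i) * q.appTop (b i) := by
  have HP := isPushout_appTop hflat H
  algebraize [g.appTop.hom, h.appTop.hom]
  have PY := CommRingCat.isPushout_tensorProduct Γ(S, ⊤) Γ(X, ⊤) Γ(Y, ⊤)
  have w : g.appTop ≫ p.appTop = h.appTop ≫ q.appTop := HP.w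
  let d := PY.desc p.appTop q.appTop w
  have : IsIso d := FinFibImage.isIso_desc_of_isPushout PY _ _ w HP
  have hd : ∀ a b, d (a ⊗ₜ b) = p.appTop a * q.appTop b := fun a b => by
    have h1 : d (a ⊗ₜ 1) = p.appTop a := congr($(PY.inl_desc p.appTop q.appTop w).hom a)
    have h2 : d (1 ⊗ₜ b) = q.appTop b := congr($(PY.inr_desc p.appTop q.appTop w).hom b)
    rw [show a ⊗ₜ[Γ(S, ⊤)] b = (a ⊗ₜ 1) * (1 ⊗ₜ b) by simp, ← h1, ← h2]
    exact map_mul d.hom _ _
  obtain ⟨x, rfl⟩ := (ConcreteCategory.bijective_of_isIso d).2 F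
  obtain ⟨s, hs⟩ := TensorProduct.exists_finset (R := Γ(S, ⊤)) x
  refine ⟨s.card, fun i => (s.equivFin.symm i).1.1, fun i => (s.equivFin.symm i).1.2, ?_⟩
  rw [hs]
  erw [map_sum d.hom]
  rw [← Finset.sum_coe_sort s, ← s.equivFin.symm.sum_comp]
  exact Finset.sum_congr rfl fun i _ => hd _ _

end Groth.Agent.GammaProd
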